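import Cfsg.Agent.BH.Defs
import Cfsg.Agent.BH.HN
import Cfsg.Agent.KM.Mu.B

/-!
# BH, central products (helper83)

`CP ι` : the target is the central product of the image of `ι` and its centralizer.

* `CP.fac`, `CP.ov_iff`, `CP.cc` : characters; `cvH ι b`, `CP.blk`, `CP.defect`, `CP.key` : blocks;
* `cp_incl`, `cov_eq`, `root_down`, `mem_In`, `ce_le_In`, `zr_le` : roots for subgroups `K ≤ N ≤ K C(K)`.
-/

set_option autoImplicit false

namespace Cfsg.Agent.BH.Cmp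

open Cfsg Cfsg.Agent Cfsg.Agent.Characters.Core Cfsg.Agent.Blocks Cfsg.Agent.TID.Red Cfsg.Agent.KM.BK Cfsg.Agent.TO
open Cfsg.Agent.KM.Mu
open Cfsg.Agent.H592.Transport (tr trSet tr_mem_trSet mem_trSet isPBlock_trSet isDefectGroup_trSet)

/-- a central product -/
def CP {K X : Type} [Group K] [Group X] (ι : K →* X) : Prop := ∀ x : X, ∃ k : K, ∃ c ∈ Ce ι.range, ι k * c = x

/-- the constituents along `ι` -/
def cvH {K X : Type} [Group K] [Group X] [Finite K] (ι : K →* X) (b : Set (IrrCharacter X)) : Set (IrrCharacter K) :=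
  {φ | ∃ ψ ∈ b, Ov ι (ψ : X → ℂ) (φ : K → ℂ)}

section hom

variable {K X : Type} [Group K] [Group X] {ι : K →* X}

theorem comm {c : X} (hc : c ∈ Ce ι.range) (k : K) : ι k * c = c * ι k := hc _ ⟨k, rfl⟩

theorem CP.normal (h : CP ι) : ι.range.Normal := ⟨by
  rintro _ ⟨k, rfl⟩ x
  obtain ⟨l, c, hc, rfl⟩ := h x
  refine ⟨l * k * l⁻¹, ?_⟩
  rw [map_mul, map_mul, map_inv, mul_assoc (ι l) c, ← comm hc]
  group⟩

theorem CP.symm (h : CP ι) : CP (Ce ι.range).subtype := fun x => by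
  obtain ⟨k, c, hc, rfl⟩ := h x
  refine ⟨⟨c, hc⟩, ι k, ?_, (comm hc k).symm⟩
  rintro _ ⟨d, rfl⟩
  exact (comm d.2 k).symm

theorem CP.conj (h : CP ι) {k : K} {x : X} (hx : IsConj (ι k) x) : ∃ k', IsConj k k' ∧ ι k' = x := by
  obtain ⟨y, rfl⟩ := isConj_iff.1 hx
  obtain ⟨l, c, hc, rfl⟩ := h y
  refine ⟨l * k * l⁻¹, isConj_iff.2 ⟨l, rfl⟩, ?_⟩
  rw [map_mul, map_mul, map_inv, mul_assoc (ι l) c, ← comm hc]
  group

theorem CP.index (h : CP ι) (hι : Function.Injective ι) (k : K) : (Cu (ι k)).index = (Cu k).index := by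
  rw [Basic.index_centralizer_eq_ncard, Basic.index_centralizer_eq_ncard, ← Set.ncard_image_of_injective _ hι]
  congr 1
  ext x
  exact ⟨fun hx => h.conj hx, fun ⟨k', h1, h2⟩ => h2 ▸ ι.map_isConj h1⟩

/-- the multiplication -/
def mu (ι : K →* X) : K × Ce ι.range →* X := ι.noncommCoprod (Ce ι.range).subtype fun k c => comm c.2 k

theorem CP.surj (h : CP ι) : Function.Surjective (mu ι) := fun x => by
  obtain ⟨k, c, hc, rfl⟩ := h x
  exact ⟨(k, ⟨c, hc⟩), rfl⟩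

variable [Finite K] [Finite X]

omit [Finite X] in
theorem ov_of_eq {ψ : X → ℂ} {φ : IrrCharacter K} {a : ℂ} (ha : a ≠ 0) (h : ∀ k, ψ (ι k) = a * (φ : K → ℂ) k) :
    Ov ι ψ (φ : K → ℂ) := by
  let _ := Fintype.ofFinite K
  rw [ov_iff, show (fun k => ψ (ι k)) = a • (φ : K → ℂ) from funext h, classInner_smul_left, classInner_irr_self φ.2,
    mul_one]
  exact ha

theorem exists_mid {Y : Type} [Group Y] {ι₂ : X →* Y} {j : K →* Y} (hj : ∀ k, j k = ι₂ (ι k)) {χ : Y → ℂ}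
    (hχ : IsClassFunction Y χ) {θ : K → ℂ} (h : Ov j χ θ) : ∃ ψ : IrrCharacter X, Ov ι₂ χ (ψ : X → ℂ) ∧ Ov ι (ψ : X → ℂ) θ := by
  let _ := Fintype.ofFinite K
  let _ := Fintype.ofFinite X
  have := finite_irr (G := X)
  let _ := Fintype.ofFinite (IrrCharacter X)
  by_contra! h1
  have h2 := classFunction_eq_sum (f := fun x => χ (ι₂ x)) fun g x => by
    simp only [map_mul, map_inv]
    exact hχ _ _
  refine (ov_iff _ _ _).1 h ?_
  rw [show (fun k => χ (j k)) = ∑ ψ : IrrCharacter X, classInner (fun x => χ (ι₂ x)) (ψ : X → ℂ) •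
    fun k => (ψ : X → ℂ) (ι k) from funext fun k => by
      rw [hj, congrFun h2 (ι k), Finset.sum_apply, Finset.sum_apply]
      rfl, classInner_sum_left]
  refine Finset.sum_eq_zero fun ψ _ => ?_
  rw [classInner_smul_left]
  by_cases h3 : classInner (fun x => χ (ι₂ x)) (ψ : X → ℂ) = 0
  · rw [h3, zero_mul]
  · rw [not_not.1 (mt (ov_iff _ _ _).2 (h1 ψ ((ov_iff _ _ _).2 h3))), mul_zero]

theorem CP.fac (h : CP ι) (ψ : IrrCharacter X) : ∃ (φ : IrrCharacter K) (η : IrrCharacter (Ce ι.range)),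
    ∀ (k : K) (c : Ce ι.range), (ψ : X → ℂ) (ι k * c) = (φ : K → ℂ) k * (η : Ce ι.range → ℂ) c := by
  obtain ⟨φ, η, hφ, hη, h1⟩ := (S0188.result _).1 (isIrr_comp (mu ι) h.surj ψ.2)
  exact ⟨⟨φ, hφ⟩, ⟨η, hη⟩, fun k c => congrFun h1 (k, c)⟩

theorem CP.ov_iff (h : CP ι) (ψ : IrrCharacter X) (φ : IrrCharacter K) : Ov ι (ψ : X → ℂ) (φ : K → ℂ) ↔
    ∀ k, (ψ : X → ℂ) (ι k) * (φ : K → ℂ) 1 = (ψ : X → ℂ) 1 * (φ : K → ℂ) k := by
  have h0 := isIrr_apply_one_ne_zero φ.2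
  refine ⟨fun h1 => ?_, fun h1 => ov_of_eq (div_ne_zero (isIrr_apply_one_ne_zero ψ.2) h0) fun k => by
    rw [div_mul_eq_mul_div, ← h1, mul_div_cancel_right₀ _ h0]⟩
  let _ := Fintype.ofFinite K
  obtain ⟨φ', η, h2⟩ := h.fac ψ
  have h3 : ∀ k, (ψ : X → ℂ) (ι k) = (η : Ce ι.range → ℂ) 1 * (φ' : K → ℂ) k := fun k => by
    rw [mul_comm, ← h2, Subgroup.coe_one, mul_one]
  obtain rfl : φ' = φ := by
    by_contra h4
    refine (TID.Red.ov_iff _ _ _).1 h1 ?_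
    rw [show (fun k => (ψ : X → ℂ) (ι k)) = (η : Ce ι.range → ℂ) 1 • (φ' : K → ℂ) from funext h3, classInner_smul_left,
      classInner_irr_ne φ'.2 φ.2 fun e => h4 (Subtype.ext e), mul_zero]
  intro k
  rw [← map_one ι, h3, h3]
  ring

theorem CP.div (h : CP ι) {ψ : IrrCharacter X} {φ : IrrCharacter K} (h1 : Ov ι (ψ : X → ℂ) (φ : K → ℂ)) (k : K) :
    (ψ : X → ℂ) (ι k) / (ψ : X → ℂ) 1 = (φ : K → ℂ) k / (φ : K → ℂ) 1 := by
  rw [div_eq_div_iff (isIrr_apply_one_ne_zero ψ.2) (isIrr_apply_one_ne_zero φ.2), (h.ov_iff ψ φ).1 h1, mul_comm]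

theorem CP.cc (h : CP ι) (hι : Function.Injective ι) {ψ : IrrCharacter X} {φ : IrrCharacter K}
    (h1 : Ov ι (ψ : X → ℂ) (φ : K → ℂ)) (k : K) : centralChar (ψ : X → ℂ) (ι k) = centralChar (φ : K → ℂ) k := by
  rw [Basic.centralChar_def, Basic.centralChar_def, h.index hι, mul_div_assoc, mul_div_assoc, h.div h1]

omit [Finite X] in
theorem tr_cvH (hι : Function.Injective ι) [Finite ι.range] (b : Set (IrrCharacter X)) [Finite X] :
    trSet (MonoidHom.ofInjective hι) (cov b ι.range) = cvH ι b := by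
  ext φ
  exact exists_congr fun ψ => and_congr_right fun _ => ov_src_iff (MonoidHom.ofInjective hι).symm
    (ι' := ι.range.subtype) (fun a => (MonoidHom.apply_ofInjective_symm hι a).symm) _ φ

variable {p : ℕ} [Fact p.Prime] {M : Ideal AlgInt} {b : Set (IrrCharacter X)} {D : Subgroup X}

theorem CP.blk (h : CP ι) (hι : Function.Injective ι) (hM : IsPModular p M) (hb : IsPBlock M b) :
    IsPBlock M (cvH ι b) := by
  have := Local.isPrime_of_isPModular hM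
  have := h.normal
  let _ := Fintype.ofFinite X
  let _ := Fintype.ofFinite ι.range
  obtain ⟨ψ, hψ⟩ := Basic.isPBlock_nonempty hb
  obtain ⟨φ, hφ⟩ := exists_ov ι ψ.2
  have h1 : ∀ (ψ : IrrCharacter X) (φ : IrrCharacter K), Ov ι.range.subtype (ψ : X → ℂ)
      (tr (MonoidHom.ofInjective hι).symm φ : ι.range → ℂ) ↔ Ov ι (ψ : X → ℂ) (φ : K → ℂ) := fun ψ φ =>
    ov_src_iff _ (fun a => (MonoidHom.apply_ofInjective_symm hι a).symm) _ φ
  refine ⟨φ, Set.ext fun φ' => ⟨fun ⟨ψ', h2, h3⟩ k => ?_, fun h2 => ?_⟩⟩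
  · rw [← h.cc hι hφ, ← h.cc hι h3]
    exact Basic.isPBlock_sameBlock hb hψ h2 _
  · obtain ⟨ψ', h3, h4⟩ := S4432.result p M hM ι.range b hb _
      (isPBlock_trSet (MonoidHom.ofInjective hι).symm (Basic.isPBlock_blockOf φ))
      ⟨ψ, hψ, _, tr_mem_trSet.2 (Basic.mem_blockOf_self φ), (ov_subtype_iff _ _ _).1 ((h1 ψ φ).2 hφ)⟩ _
      (tr_mem_trSet.2 h2)
    exact ⟨ψ', h3, (h1 ψ' φ').1 ((ov_subtype_iff _ _ _).2 h4)⟩

theorem CP.defect (h : CP ι) (hι : Function.Injective ι) (hM : IsPModular p M) (hb : IsPBlock M b)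
    (hD : IsDefectGroup p M b D) : IsDefectGroup p M (cvH ι b) (D.comap ι) := by
  have := Local.isPrime_of_isPModular hM
  have := h.normal
  have h1 := isPBlock_trSet (MonoidHom.ofInjective hι).symm (h.blk hι hM hb)
  rw [← tr_cvH hι, trSet_symm_trSet] at h1
  have h2 := isDefectGroup_trSet (MonoidHom.ofInjective hι) (defect_cov hM hb hD h1)
  rw [tr_cvH hι] at h2
  convert h2 using 1
  ext k
  exact ⟨fun hk => ⟨hk, k, rfl⟩, fun hk => hk.1⟩

/-- **The defect group of a central product.** -/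
theorem CP.key (h : CP ι) (hι : Function.Injective ι) (hM : IsPModular p M) (hb : IsPBlock M b)
    (hD : IsDefectGroup p M b D) (hE : EQ p b) (hz : ¬ p ∣ Nat.card (Subgroup.center K)) {x : X} (hx : x ∈ D) :
    ∃ k, ι k ∈ D ∧ (ι k)⁻¹ * x ∈ Ce ι.range := by
  have := Local.isPrime_of_isPModular hM
  have hp : p.Prime := Fact.out
  obtain ⟨ψ, hψ⟩ := Basic.isPBlock_nonempty hb
  obtain ⟨φ, η, h1⟩ := h.fac ψ
  have hs := (Ce ι.range).subtype_injective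
  have d1 := h.defect hι hM hb hD
  have d2 := h.symm.defect hs hM hb hD
  have h2 := df_le hM (h.blk hι hM hb) d1 (χ := φ) ⟨ψ, hψ, ov_of_eq (isIrr_apply_one_ne_zero η.2) fun k => by
    rw [mul_comm, ← h1, Subgroup.coe_one, mul_one]⟩
  have h3 := df_le hM (h.symm.blk hs hM hb) d2 (χ := η) ⟨ψ, hψ, ov_of_eq (isIrr_apply_one_ne_zero φ.2) fun c => by
    rw [← h1, map_one, one_mul]
    rfl⟩
  have h4 := TB.df_hz hM hb hD (eq_iff_hz.1 hE) hψ
  have h5 : nu p φ + nu p η = nu p ψ := by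
    have h6 := h1 1 1
    rw [Subgroup.coe_one, mul_one, map_one, Basic.irr_one_eq_charDegree ψ.2, Basic.irr_one_eq_charDegree φ.2,
      Basic.irr_one_eq_charDegree η.2] at h6
    exact fac_mul (by exact_mod_cast h6.symm) (Basic.charDegree_pos ψ.2).ne'
  have h6 := fac_le (p := p) (Subgroup.card_dvd_of_surjective _ h.surj) Nat.card_pos.ne'
  rw [Nat.card_prod, ← fac_mul rfl (Nat.mul_pos Nat.card_pos Nat.card_pos).ne'] at h6
  have h7 := df_add (p := p) ψ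
  have h8 := df_add (p := p) φ
  have h9 := df_add (p := p) η
  have p1 := H592.Defect.isPGroup_of_isDefectGroup d1
  let f : D.comap ι × D.comap (Ce ι.range).subtype → D := fun u => ⟨ι u.1 * u.2.1, mul_mem u.1.2 u.2.2⟩
  have hf : Function.Injective f := fun u v e => by
    have e1 : ι u.1 * u.2.1 = ι v.1 * v.2.1 := congrArg Subtype.val e
    have e2 : ι ((v.1 : K)⁻¹ * u.1) = (v.2.1 : X) * (u.2.1 : X)⁻¹ := by
      rw [map_mul, map_inv, inv_mul_eq_iff_eq_mul, ← mul_assoc, ← e1, mul_inv_cancel_right]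
    have e3 : (v.1 : K)⁻¹ * u.1 ∈ Subgroup.center K := Subgroup.mem_center_iff.2 fun l => hι (by
      rw [map_mul, map_mul ι _ l, e2]
      exact comm (mul_mem v.2.1.2 (inv_mem u.2.1.2)) l)
    obtain ⟨n, hn⟩ := p1 (v.1⁻¹ * u.1)
    have e4 : (v.1 : K)⁻¹ * u.1 = 1 := eq_one_of_coprime (congrArg Subtype.val hn)
      (congrArg Subtype.val (pow_card_eq_one' (x := (⟨_, e3⟩ : Subgroup.center K)))) hz
    rw [e4, map_one, eq_comm, mul_inv_eq_one] at e2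
    exact Prod.ext (Subtype.ext (inv_mul_eq_one.1 e4).symm) (Subtype.ext (Subtype.ext e2.symm))
  obtain ⟨u, hu⟩ := (hf.bijective_of_nat_card_le (by
    rw [Nat.card_prod, H592.Defect.card_eq_pow_factorization p (H592.Defect.isPGroup_of_isDefectGroup hD),
      H592.Defect.card_eq_pow_factorization p p1,
      H592.Defect.card_eq_pow_factorization p (H592.Defect.isPGroup_of_isDefectGroup d2), ← pow_add]
    exact Nat.pow_le_pow_right hp.pos (by omega))).2 ⟨x, hx⟩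
  refine ⟨u.1, u.1.2, ?_⟩
  rw [← show ι u.1 * u.2.1 = x from congrArg Subtype.val hu, inv_mul_cancel_left]
  exact u.2.1.2

end hom

section sub

variable {G : Type} [Group G] {K N Q : Subgroup G}

theorem mem_ce_incl (hKN : K ≤ N) {c : N} : c ∈ Ce (Subgroup.inclusion hKN).range ↔ (c : G) ∈ Ce K :=
  ⟨fun h k hk => congrArg Subtype.val (h _ ⟨⟨k, hk⟩, rfl⟩), fun h _ ⟨k, hk⟩ => hk ▸ Subtype.ext (h k k.2)⟩

theorem cp_incl (hKN : K ≤ N) (hN : N ≤ K ⊔ Ce K) : CP (Subgroup.inclusion hKN) := fun x => by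
  obtain ⟨k, hk, c, hc, h⟩ := exists_mul_of_le_centralizer le_rfl (hN x.2)
  have h1 : c ∈ N := by
    rw [eq_inv_mul_of_mul_eq h]
    exact mul_mem (inv_mem (hKN hk)) x.2
  exact ⟨⟨k, hk⟩, ⟨c, h1⟩, (mem_ce_incl hKN).2 hc, Subtype.ext h⟩

theorem mem_In_iff {θ : G → ℂ} {t : G} :
    t ∈ In Q θ ↔ (∀ x, t * x * t⁻¹ ∈ Q ↔ x ∈ Q) ∧ ∀ g, θ (t * g * t⁻¹) = θ g := Iff.rfl

theorem mem_In {θ θ' : G → ℂ} {a : ℂ} (ha : a ≠ 0) (h : ∀ k ∈ K, θ k = a * θ' k) (h0 : ∀ g, g ∉ K → θ' g = 0) {t : G}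
    (ht : t ∈ In Q θ) (hK : t ∈ Subgroup.normalizer (K : Set G)) : t ∈ In (Q ⊓ K) θ' := by
  have h1 := Subgroup.mem_normalizer_iff.1 hK
  refine ⟨fun x => and_congr (ht.1 x) (h1 x).symm, fun g => ?_⟩
  change θ' (t * g * t⁻¹) = _
  by_cases hg : g ∈ K
  · exact mul_left_cancel₀ ha ((h _ ((h1 g).1 hg)).symm.trans ((ht.2 g).trans (h g hg)))
  · rw [h0 g hg, h0 _ fun h2 => hg ((h1 g).2 h2)]

theorem ce_le_In {θ' : G → ℂ} (hQ : Q ≤ K) (h0 : ∀ g, g ∉ K → θ' g = 0) : Ce K ≤ In Q θ' := fun c hc => by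
  have h1 := Subgroup.mem_normalizer_iff.1 (Subgroup.centralizer_le_normalizer _ hc)
  have h2 : ∀ g ∈ K, c * g * c⁻¹ = g := fun g hg => by rw [← hc g hg, mul_inv_cancel_right]
  refine mem_In_iff.2 ⟨fun x => ⟨fun h => ?_, fun h => (h2 x (hQ h)).symm ▸ h⟩, fun g => ?_⟩
  · rwa [h2 x ((h1 x).2 (hQ h))] at h
  · by_cases hg : g ∈ K
    · rw [h2 g hg]
    · rw [h0 g hg, h0 _ fun h3 => hg ((h1 g).2 h3)]

theorem zr_le (hN : N ≤ K ⊔ Ce K) {θ θ' : G → ℂ} {a : ℂ} (ha : a ≠ 0) (h : ∀ k ∈ K, θ k = a * θ' k)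
    (h0 : ∀ g, g ∉ K → θ' g = 0) : Zr K (Q ⊓ K) θ' ≤ Zr N Q θ := fun z hz => ⟨hz.1.1, fun t ht => by
  obtain ⟨k, hk, c, hc, rfl⟩ := exists_mul_of_le_centralizer le_rfl (hN ht.2)
  have h1 := mem_In ha h h0 ht.1 (mul_mem (Subgroup.le_normalizer hk) (Subgroup.centralizer_le_normalizer _ hc))
  rw [mul_assoc, ← hc z hz.1.2, ← mul_assoc,
    hz.2 k ⟨(mul_mem_cancel_right (ce_le_In inf_le_right h0 hc)).1 h1, hk⟩, mul_assoc]⟩

variable [Finite G] {p : ℕ} [Fact p.Prime] {M : Ideal AlgInt}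

theorem cov_eq (hKN : K ≤ N) (B : Set (IrrCharacter G)) : cov B K = cvH (Subgroup.inclusion hKN) (cov B N) := by
  ext φ
  constructor
  · rintro ⟨χ, hχ, h⟩
    obtain ⟨ψ, h1, h2⟩ := exists_mid (ι := Subgroup.inclusion hKN) (ι₂ := N.subtype) (fun _ => rfl)
      (isIrr_isClassFunction χ.2) h
    exact ⟨ψ, ⟨χ, hχ, h1⟩, h2⟩
  · rintro ⟨ψ, ⟨χ, hχ, h1⟩, h2⟩
    exact ⟨χ, hχ, Ov.trans (fun _ => rfl) (isIrr_isCharacter χ.2) ψ.2 φ.2 h1 h2⟩

/-- **The root of a factor.** -/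
theorem root_down (hKN : K ≤ N) (hN : N ≤ K ⊔ Ce K) {b : Set (IrrCharacter N)} {θ : G → ℂ} (r : Root p M N b Q θ)
    (hQ : ∀ x ∈ Q, ∃ k ∈ Q ⊓ K, k⁻¹ * x ∈ Ce K) : ∃ (θ' : G → ℂ) (a : ℂ), a ≠ 0 ∧ (∀ k ∈ K, θ k = a * θ' k) ∧
      Root p M K (cvH (Subgroup.inclusion hKN) b) (Q ⊓ K) θ' := by
  classical
  have hM := r.can.hM
  have := Local.isPrime_of_isPModular hM
  have h := cp_incl hKN hN
  have hι := Subgroup.inclusion_injective hKN
  have h1 : ∀ k : K, k ∈ Ce ((Q ⊓ K).subgroupOf K) ↔ Subgroup.inclusion hKN k ∈ Ce (Q.subgroupOf N) := fun k => by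
    refine ⟨fun hk x hx => Subtype.ext ?_, fun hk x hx =>
      hι ((map_mul _ _ _).trans ((hk (Subgroup.inclusion hKN x) hx.1).trans (map_mul _ _ _).symm))⟩
    obtain ⟨l, hl, hc⟩ := hQ x hx
    have h2 : l * k = k * l := congrArg Subtype.val (hk ⟨l, hl.2⟩ hl)
    change (x : G) * k = k * x
    rw [← mul_inv_cancel_left l x, mul_assoc, ← hc k k.2, ← mul_assoc, h2, mul_assoc]
  let j : Ce ((Q ⊓ K).subgroupOf K) →* Ce (Q.subgroupOf N) :=
    ((Subgroup.inclusion hKN).comp (Subgroup.subtype _)).codRestrict _ fun k => (h1 k).1 k.2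
  have hj : Function.Injective j := fun u v e => Subtype.ext (hι (congrArg Subtype.val e))
  have h2 : CP j := fun x => by
    obtain ⟨k, c, hc, e⟩ := h x
    have h3 : k ∈ Ce ((Q ⊓ K).subgroupOf K) := fun y hy => hι (by
      have h4 := x.2 (Subgroup.inclusion hKN y) hy.1
      rw [← e, mul_assoc, ← comm hc, ← mul_assoc, ← mul_assoc] at h4
      rw [map_mul, map_mul, mul_right_cancel h4])
    refine ⟨⟨k, h3⟩, ⟨c, (mul_mem_cancel_left ((h1 k).1 h3)).1 (e ▸ x.2)⟩, ?_, Subtype.ext e⟩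
    rintro _ ⟨y, rfl⟩
    exact Subtype.ext (comm hc y)
  obtain ⟨φ, hφ⟩ := exists_ov j r.can.irr
  have h3 : ∀ k : Ce ((Q ⊓ K).subgroupOf K), θ k * φ.1 1 = θ 1 * φ.1 k := (h2.ov_iff ⟨_, r.can.irr⟩ φ).1 hφ
  have h4 : θ 1 ≠ 0 := (isIrr_apply_one_ne_zero r.can.irr :)
  have h5 := isIrr_apply_one_ne_zero φ.2
  let θ' : G → ℂ := fun g => if g ∈ K then θ g * φ.1 1 / θ 1 else 0
  have h6 : ∀ k ∈ K, θ k = θ 1 / φ.1 1 * θ' k := fun k hk => by
    simp only [θ', if_pos hk]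
    field_simp
  have h7 : (fun c : Ce ((Q ⊓ K).subgroupOf K) => θ' c) = φ.1 := funext fun c => by
    simp only [θ', if_pos c.1.2]
    rw [h3, mul_div_cancel_left₀ _ h4]
  refine ⟨θ', _, div_ne_zero h4 h5, h6, inf_le_right, fun g hg => if_neg hg, hM, ?_, fun x hx =>
    (h1 x).2 (r.can.ab hx.1), h7 ▸ φ.2, ?_, fun g hg => ?_, fun d hd => ?_⟩
  · convert h.defect hι hM r.can.ind.2.1 r.can.hD using 1
    ext k
    exact ⟨fun hk => hk.1, fun hk => ⟨hk, k.2⟩⟩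
  · rw [h7]
    refine ⟨Basic.isPBlock_blockOf φ, h.blk hι hM r.can.ind.2.1, fun ξ hξ χ ⟨ψ, hψ, h8⟩ g => ?_⟩
    rw [Basic.isPBlock_eq_of_mem (Basic.isPBlock_blockOf φ) (h2.blk hj hM r.can.ind.1) (Basic.mem_blockOf_self φ)
      ⟨⟨_, r.can.irr⟩, Basic.mem_blockOf_self (M := M) ⟨_, r.can.irr⟩, hφ⟩] at hξ
    obtain ⟨ξ', hξ', h9⟩ := hξ
    convert r.can.ind.2.2 ξ' hξ' ψ hψ (Subgroup.inclusion hKN g) using 2
    · refine finsum_mem_eq_of_bijOn j ⟨fun u hu => (Subgroup.inclusion hKN).map_isConj hu, hj.injOn, fun v hv => ?_⟩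
        fun u _ => (h2.div h9 u).symm
      obtain ⟨k, e1, e2⟩ := h.conj hv
      exact ⟨⟨k, (h1 k).2 (e2 ▸ v.2)⟩, e1, Subtype.ext e2⟩
    · exact (h.cc hι h8 g).symm
  · have h8 : θ g = 0 := r.can.zero (Subgroup.inclusion hKN g) fun h9 => hg ((h1 g).2 h9)
    simp only [θ', h8, zero_mul, zero_div, ite_self]
  · have h8 : θ d = θ 1 := r.can.triv (Subgroup.inclusion hKN d) hd.1
    simp only [θ', if_pos d.2, if_pos (1 : K).2, h8]
    rfl

end sub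

end Cfsg.Agent.BH.Cmp
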