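import Cfsg.Agent.BH.Cmp.A
import Cfsg.Agent.H625.PHZ
import Cfsg.Agent.CharactersDeep.ModCongr
import Cfsg.Agent.Characters.CCBasic
import Cfsg.Agent.S4816

/-!
# BH, boxes OP and CMP (helper83)
-/

set_option autoImplicit false

namespace Cfsg.Agent.BH

open Cfsg Cfsg.Agent Cfsg.Agent.Characters.Core Cfsg.Agent.Blocks Cfsg.Agent.TID.Red Cfsg.Agent.KM.BK Cfsg.Agent.TO
open Cfsg.Agent.KM.Mu Cfsg.Agent.SignalizersComponents.Components

variable {p : ℕ} [Fact p.Prime] {M : Ideal AlgInt}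

namespace Cmp

variable {G : Type} [Group G] [Finite G] {B : Set (IrrCharacter G)} {D : Subgroup G}

theorem eq_one (m : Min p M B D) {x : G} (hx : x ∈ D) (hz : x ∈ Subgroup.center G) : x = 1 := by
  obtain ⟨k, hk⟩ := H592.Defect.isPGroup_of_isDefectGroup m.hD ⟨x, hx⟩
  exact eq_one_of_coprime (congrArg Subtype.val hk)
    (congrArg Subtype.val (pow_card_eq_one' (x := (⟨x, hz⟩ : Subgroup.center G)))) m.zp

theorem lt_of (m : Min p M B D) {N : Subgroup G} (hZ : Subgroup.center G ≤ N) (h : ¬ N ≤ D ⊓ N ⊔ Subgroup.center G) :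
    Nat.card (D ⊓ N : Subgroup G) * N.index < (Subgroup.center G).index := by
  rw [← Subgroup.relIndex_mul_index (le_sup_right : _ ≤ D ⊓ N ⊔ Subgroup.center G), Subgroup.relIndex_sup_right,
    ← Subgroup.inf_relIndex_right, (Subgroup.eq_bot_iff_forall _).2 fun x (hx : x ∈ Subgroup.center G ⊓ (D ⊓ N)) =>
      eq_one m hx.2.1 hx.1, Subgroup.relIndex_bot_left]
  exact Nat.mul_lt_mul_of_pos_left (Subgroup.index_strictAnti (lt_of_le_not_ge (sup_le inf_le_right hZ) h)) Nat.card_pos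

omit [Finite G] in
theorem ab_of {N Q : Subgroup G} (hQ : Ab Q) (h : N ≤ Q ⊔ Subgroup.center G) : Ab N := fun x hx y hy => by
  obtain ⟨a, ha, z, hz, rfl⟩ := Subgroup.mem_sup_of_normal_right.1 (h hx)
  obtain ⟨b, hb, w, hw, rfl⟩ := Subgroup.mem_sup_of_normal_right.1 (h hy)
  have h1 := Subgroup.mem_center_iff.1 hz
  have h2 := Subgroup.mem_center_iff.1 hw
  calc a * z * (b * w) = a * b * (z * w) := by rw [mul_assoc, ← mul_assoc z, ← h1 b]; group
    _ = b * w * (a * z) := by rw [hQ a ha b hb, h2 z, mul_assoc b w, ← mul_assoc w, ← h2 a]; group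

/-- the defect group centralizes `C_Q(E)` -/
theorem cen_zr (RZ : BoxRZ p M) (RT : BoxRT p M) (m : Min p M B D) (N : Subgroup G) [N.Normal]
    (hZ : Subgroup.center G ≤ N) (hN : N ≠ ⊤) (h : ¬ N ≤ D ⊓ N ⊔ Subgroup.center G) :
    ∃ θ, Root p M N (cov B N) (D ⊓ N) θ ∧ D ≤ In (D ⊓ N) θ ∧ D ≤ Ce (Zr N (D ⊓ N) θ) := by
  obtain ⟨θ, r, h1⟩ := (RT m.hM G N B D m.hB m.hD (m.blk N) (m.stab N) (m.ab N hN)).1
  refine ⟨θ, r, h1, fun d hd z hz => ?_⟩
  obtain ⟨n, hn, c, hc, rfl⟩ := Subgroup.mem_sup_of_normal_left.1 (RZ m.hM m.km G N B D m.hB m.hD m.hz (m.blk N) (m.stab N)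
    (fun H _ _ h2 => m.ih H (Or.inl (h2.trans_lt (lt_of m hZ h)))) θ r hd)
  rw [← mul_assoc, ← hz.2 n ⟨(mul_mem_cancel_right (Subgroup.mem_inf.1 hc).1).1 (h1 hd), hn⟩, mul_assoc, hc.2 z hz,
    mul_assoc]

theorem ov_center {K : Subgroup G} {χ : IrrCharacter G} {θ : IrrCharacter K} (h : Ov K.subtype (χ : G → ℂ) (θ : K → ℂ))
    {z : G} (hz : z ∈ Subgroup.center G) (hK : z ∈ K) :
    (θ : K → ℂ) ⟨z, hK⟩ / (θ : K → ℂ) 1 = (χ : G → ℂ) z / (χ : G → ℂ) 1 := by
  let _ := Fintype.ofFinite K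
  rw [div_eq_div_iff (isIrr_apply_one_ne_zero θ.2) (isIrr_apply_one_ne_zero χ.2), mul_comm]
  exact (H625.PHZ.central_eq K χ.2 θ.2 ((ov_subtype_iff _ _ _).1 h) hz hK).symm

/-- the centralizer of `O_p(G)` is small: one block over a central character -/
theorem uniq (m : Min p M B D) (hab : Ab (Ce (pCore p G)))
    (h : Ce (pCore p G) ≤ D ⊓ Ce (pCore p G) ⊔ Subgroup.center G) {χ χ' : IrrCharacter G} (hχ : χ ∈ B)
    (hz : ∀ z ∈ Subgroup.center G, (χ' : G → ℂ) z / (χ' : G → ℂ) 1 = (χ : G → ℂ) z / (χ : G → ℂ) 1) : χ' ∈ B := by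
  have hM := m.hM
  have := Local.isPrime_of_isPModular hM
  have := Lib.Cores.pCore_normal (G := G) p
  set N := Ce (pCore p G) with hN
  let _ := Fintype.ofFinite G
  let _ := Fintype.ofFinite N
  obtain ⟨θ, hθ⟩ := exists_ov N.subtype χ.2
  obtain ⟨θ', hθ'⟩ := exists_ov N.subtype χ'.2
  have hc : ∀ a b : N, a * b = b * a := fun a b => Subtype.ext (hab a a.2 b b.2)
  have e1 := Characters.CCBasic.irr_apply_one_of_comm hc θ.2
  have e2 := Characters.CCBasic.irr_apply_one_of_comm hc θ'.2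
  have h1 : θ ∈ cov B N := ⟨χ, hχ, hθ⟩
  have h2 : θ' ∈ cov B N := by
    rw [Basic.isPBlock_eq_blockOf (m.blk N) h1]
    intro n
    obtain ⟨q, hq, z, hz', e⟩ := Subgroup.mem_sup_of_normal_right.1 (h n.2)
    have hzN : z ∈ N := Subgroup.center_le_centralizer _ hz'
    have h3 : IsPPart p n ⟨q, hq.2⟩ := by
      refine ⟨⟨z, hzN⟩, Subtype.ext e, hc _ _, ?_, fun h4 => m.zp (h4.trans ?_)⟩
      · obtain ⟨k, hk⟩ := IsPGroup.iff_orderOf.1 (H592.Defect.isPGroup_of_isDefectGroup m.hD) ⟨q, hq.1⟩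
        exact ⟨k, by rw [← hk, Subgroup.orderOf_mk, Subgroup.orderOf_mk]⟩
      · rw [Subgroup.orderOf_mk]
        exact (Subgroup.center G).orderOf_dvd_natCard hz'
    have h4 : (⟨q, hq.2⟩ : N)⁻¹ * n = ⟨z, hzN⟩ := Subtype.ext (inv_mul_eq_of_eq_mul e.symm)
    have h5 := CharactersDeep.ModCongr.memLocalIdeal_character_sub hM θ.2 n _ h3
    have h6 := CharactersDeep.ModCongr.memLocalIdeal_character_sub hM θ'.2 n _ h3
    have h7 := (ov_center hθ hz' hzN).trans ((hz z hz').symm.trans (ov_center hθ' hz' hzN).symm)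
    rw [e1, e2, div_one, div_one] at h7
    rw [h4] at h5 h6
    rw [Basic.centralChar_def, Basic.centralChar_def, e1, e2, div_one, div_one, ← mul_sub]
    exact Local.memLocalIdeal_mul_left (Local.memLocalRing_natCast _)
      (Local.memLocalIdeal_sub_trans (h7 ▸ h5) (Local.memLocalIdeal_sub_comm h6))
  have key : ∀ B' : Set (IrrCharacter G), IsPBlock M B' → ∀ ψ ∈ B', ∀ g, g ∉ N →
      MemLocalIdeal M (centralChar (ψ : G → ℂ) g) := fun B' hB' ψ hψ g hg => by
    obtain ⟨P, hP⟩ := H592.Defect.exists_defectGroup p hM hB'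
    by_contra h3
    obtain ⟨x, h4, h5, -⟩ := S0929.result p M hM B' hB' P hP g ⟨ψ, hψ, h3⟩
    obtain ⟨c, rfl⟩ := isConj_iff.1 h4
    have h6 := Subgroup.Normal.conj_mem (H := N) inferInstance _
      (Subgroup.centralizer_le (S0912.result p M hM B' hB' P hP) h5) c⁻¹
    exact hg (by simpa [mul_assoc] using h6)
  have hB' := Basic.isPBlock_blockOf (M := M) χ'
  have hχ' := Basic.mem_blockOf_self (M := M) χ'
  rw [← Basic.isPBlock_eq_of_sameBlock hB' m.hB hχ' hχ fun g => ?_]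
  · exact hχ'
  · by_cases hg : g ∈ N
    · exact Local.memLocalIdeal_sub_trans ((S0965.result p M hM N _ hB' _ (m.blk N)).1
        ⟨χ', hχ', θ', h2, (ov_subtype_iff _ _ _).1 hθ'⟩ χ' hχ' θ h1 ⟨g, hg⟩)
        (Local.memLocalIdeal_sub_comm ((S0965.result p M hM N B m.hB _ (m.blk N)).1
          (covH_iff.1 (covH_cov m.hB)) χ hχ θ h1 ⟨g, hg⟩))
    · exact Local.memLocalIdeal_sub (key _ hB' χ' hχ' g hg) (key B m.hB χ hχ g hg)

/-- if `B` consists of all characters over a central character, the defect group is abelian -/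
theorem not_all (m : Min p M B D) (h : ∀ χ ∈ B, ∀ χ' : IrrCharacter G,
    (∀ z ∈ Subgroup.center G, (χ' : G → ℂ) z / (χ' : G → ℂ) 1 = (χ : G → ℂ) z / (χ : G → ℂ) 1) → χ' ∈ B) : False := by
  have hM := m.hM
  have := Local.isPrime_of_isPModular hM
  set Z := Subgroup.center G with hZ
  let _ := Fintype.ofFinite G
  let _ := Fintype.ofFinite Z
  have h1 : ∀ θ ∈ cov B Z, ∀ χ' : IrrCharacter G, classInner (fun n : Z => (χ' : G → ℂ) n) (θ : Z → ℂ) ≠ 0 → χ' ∈ B :=
    fun θ ⟨χ, hχ, h2⟩ χ' h3 => h χ hχ χ' fun z hz =>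
      (ov_center ((ov_subtype_iff _ _ _).2 h3) hz hz).symm.trans (ov_center h2 hz hz)
  have h2 := (S0970.result p M hM Z _ (m.blk Z) (fun g => (m.stab Z g).1 (Subgroup.mem_top g)) B m.hB
    (covH_iff.1 (covH_cov m.hB)) (fun B' hB' ⟨χ', h3, θ, h4, h5⟩ => by
      rw [Basic.isPBlock_eq_of_mem hB' m.hB h3 (h1 θ h4 χ' h5)]) D m.hD).2.2
  have h3 := fac_mul (p := p) Z.card_mul_index Nat.card_pos.ne'
  have h4 := Nat.factorization_eq_zero_of_not_dvd m.zp
  obtain ⟨θ, hθ⟩ := Basic.isPBlock_nonempty (m.blk Z)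
  obtain ⟨P, hP⟩ := ((H592.Defect.isPGroup_of_isDefectGroup m.hD).map (QuotientGroup.mk' Z)).exists_le_sylow
  have h5 := S4816.result p Z θ (fun g n n' e => by
    rw [show n' = n from Subtype.ext (by rw [e, Subgroup.mem_center_iff.1 n.2 g, mul_inv_cancel_right])]) (fun χ h6 => by
      have h7 := TB.df_hz hM m.hB m.hD (eq_iff_hz.1 m.hz) (h1 θ hθ χ h6)
      have h8 := df_add (p := p) χ
      have h9 := nu_le (p := p) θ
      rw [H592.Defect.factorization_card_defect p hM m.hB m.hD] at h7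
      rw [← hZ] at h4
      change nu p χ = nu p θ
      omega) P
  refine m.na fun x hx y hy => ?_
  have h6 : (QuotientGroup.mk' Z) x * (QuotientGroup.mk' Z) y = (QuotientGroup.mk' Z) y * (QuotientGroup.mk' Z) x :=
    congrArg Subtype.val (h5.1.1 ⟨_, hP ⟨x, hx, rfl⟩⟩ ⟨_, hP ⟨y, hy, rfl⟩⟩)
  rw [← map_mul, ← map_mul] at h6
  exact inv_mul_eq_one.1 (eq_one m (mul_mem (inv_mem (mul_mem hx hy)) (mul_mem hy hx)) (QuotientGroup.eq.1 h6))

theorem le_center (m : Min p M B D) (hO : pCore p G = ⊥) (N : Subgroup G) [hN : N.Normal] (h : Ab N) :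
    N ≤ Subgroup.center G := by
  refine m.zero N (eq_bot_iff.2 fun x hx => ?_)
  obtain ⟨k, hk⟩ := H592.Defect.isPGroup_of_isDefectGroup m.hD ⟨x, hx.1⟩
  let _ : CommGroup N := { (inferInstance : Group N) with mul_comm := (ab_iff.1 h).1.1 }
  exact hO ▸ Lib.GenFitting.mem_pCore_of_mem_nilpotent_normal hN CommGroup.isNilpotent hx.2 (congrArg Subtype.val hk)

theorem ce_layer (m : Min p M B D) (hO : pCore p G = ⊥) : Ce (layer G) = Subgroup.center G := by
  have := layer_normal G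
  have := Lib.Cores.fittingSubgroup_normal (G := G)
  have h1 : fittingSubgroup G ≤ Subgroup.center G := by
    refine m.zero _ (eq_bot_iff.2 fun x hx => ?_)
    obtain ⟨k, hk⟩ := H592.Defect.isPGroup_of_isDefectGroup m.hD ⟨x, hx.1⟩
    exact hO ▸ Lib.GenFitting.mem_pCore_of_mem_fitting hx.2 (congrArg Subtype.val hk)
  have h2 : generalizedFittingSubgroup G ≤ Ce (Ce (layer G)) :=
    sup_le (Subgroup.le_centralizer_iff.1 le_rfl) (h1.trans (Subgroup.center_le_centralizer _))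
  exact le_antisymm (le_center m hO _ fun x hx y hy =>
    h2 (Lib.GenFitting.centralizer_genFitting_le (Subgroup.le_centralizer_iff.1 h2 hy)) x hx)
    (Subgroup.center_le_centralizer _)

omit [Finite G] in
theorem layer_le {K : Subgroup G} (hK : IsComponent K) : layer G ⊔ Subgroup.center G ≤ K ⊔ Ce K :=
  sup_le (layer_le_iff.2 fun L hL => by
    by_cases h : L = K
    · exact h ▸ le_sup_left
    · exact (component_le_centralizer_of_ne hL hK h).trans le_sup_right)
    ((Subgroup.center_le_centralizer _).trans le_sup_right)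

theorem mem_center (m : Min p M B D) (hO : pCore p G = ⊥) {K : Subgroup G} (hK : IsComponent K) {z : G} (h1 : z ∈ K)
    (h2 : z ∈ Ce K) : z ∈ Subgroup.center G := by
  rw [← ce_layer m hO]
  exact Subgroup.le_centralizer_iff.1 ((le_sup_left.trans (layer_le hK)).trans (sup_le
    (Subgroup.le_centralizer_iff.1 inf_le_right) (Subgroup.centralizer_le (inf_le_left : K ⊓ Ce K ≤ K)))) ⟨h1, h2⟩

theorem center_inj (m : Min p M B D) (hO : pCore p G = ⊥) {K : Subgroup G} (hK : IsComponent K) :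
    (Subgroup.center K).map K.subtype ≤ Subgroup.center G := by
  rintro _ ⟨z, hz, rfl⟩
  exact mem_center m hO hK z.2 fun k hk => congrArg Subtype.val (Subgroup.mem_center_iff.1 hz ⟨k, hk⟩)

theorem zp_comp (m : Min p M B D) (hO : pCore p G = ⊥) {K : Subgroup G} (hK : IsComponent K) :
    ¬ p ∣ Nat.card (Subgroup.center K) := fun h => m.zp (h.trans (by
  rw [← Subgroup.card_map_of_injective K.subtype_injective]
  exact Subgroup.card_dvd_of_le (center_inj m hO hK)))

/-- the projections of the elements of the defect group -/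
theorem key (m : Min p M B D) (hO : pCore p G = ⊥) {K : Subgroup G} (hK : IsComponent K) {x : G} (hx : x ∈ D)
    (hx' : x ∈ layer G ⊔ Subgroup.center G) : ∃ k ∈ D ⊓ K, k⁻¹ * x ∈ Ce K := by
  have := layer_normal G
  have h1 : K ≤ layer G ⊔ Subgroup.center G := (component_le_layer hK).trans le_sup_left
  obtain ⟨k, h2, h3⟩ := (cp_incl h1 (layer_le hK)).key (Subgroup.inclusion_injective h1) m.hM (m.blk _)
    (defect_cov m.hM m.hB m.hD (m.blk _)) (m.hzc _) (zp_comp m hO hK) (x := ⟨x, hx'⟩) ⟨hx, hx'⟩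
  exact ⟨k, ⟨h2.1, k.2⟩, (mem_ce_incl h1).1 h3⟩

theorem inf_le (m : Min p M B D) (hO : pCore p G = ⊥) (T : Set (Subgroup G)) (hT : ∀ K ∈ T, IsComponent K) :
    D ⊓ (sSup T ⊔ Subgroup.center G) ≤ ⨆ K ∈ {K | IsComponent K}, D ⊓ K := by
  induction T, Set.toFinite T using Set.Finite.induction_on with
  | empty =>
    intro x hx
    rw [sSup_empty, bot_sup_eq] at hx
    rw [eq_one m hx.1 hx.2]
    exact one_mem _
  | @insert K T hKT _ ih =>
    intro x hx
    have hK := hT K (Set.mem_insert _ _)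
    have hT' : ∀ L ∈ T, IsComponent L := fun L hL => hT L (Set.mem_insert_of_mem _ hL)
    obtain ⟨k, hk, h1⟩ := key m hO hK hx.1 (sup_le_sup_right (sSup_le fun L hL => component_le_layer (hT L hL)) _ hx.2)
    have h2 : sSup T ⊔ Subgroup.center G ≤ Ce K := sup_le (sSup_le fun L hL =>
      component_le_centralizer_of_ne (hT' L hL) hK fun e => hKT (e ▸ hL)) (Subgroup.center_le_centralizer _)
    have h3 := hx.2
    rw [sSup_insert, sup_assoc] at h3
    obtain ⟨l, hl, c, hc, rfl⟩ := exists_mul_of_le_centralizer h2 h3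
    rw [← mul_assoc] at h1
    rw [← mul_inv_cancel_left k (l * c), ← mul_assoc k⁻¹]
    refine mul_mem (le_iSup₂_of_le (f := fun K (_ : K ∈ {K | IsComponent K}) => D ⊓ K) K hK le_rfl hk)
      (ih hT' ⟨mul_assoc k⁻¹ l c ▸ D.mul_mem (D.inv_mem hk.1) hx.1, mul_mem (Subgroup.mem_sup_right
        (mem_center m hO hK (K.mul_mem (K.inv_mem hk.2) hl) ((mul_mem_cancel_right (h2 hc)).1 h1))) hc⟩)

omit [Finite G] in
theorem not_ab {K : Subgroup G} (hK : IsComponent K) : ¬ Ab K := fun h =>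
  quasisimple_not_isMulCommutative hK.2 (ab_iff.1 h)

/-- a proper normal subgroup above a component -/
theorem exists_N (m : Min p M B D) (hO : pCore p G = ⊥) {K : Subgroup G} (hK : IsComponent K) (hne : K ≠ ⊤) :
    ∃ N : Subgroup G, N.Normal ∧ K ≤ N ∧ Subgroup.center G ≤ N ∧ N ≤ layer G ⊔ Subgroup.center G ∧ N ≠ ⊤ := by
  have := layer_normal G
  by_cases h : layer G ⊔ Subgroup.center G = ⊤
  · have : K.Normal := Subgroup.normalizer_eq_top_iff.1 (top_le_iff.1 (h ▸ (layer_le hK).trans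
      (sup_le Subgroup.le_normalizer (Subgroup.centralizer_le_normalizer _))))
    refine ⟨K ⊔ Subgroup.center G, inferInstance, le_sup_left, le_sup_right, h ▸ le_top, fun h1 =>
      hne (m.gen K fun x hx => ?_)⟩
    obtain ⟨k, hk, h2⟩ := key m hO hK hx (h ▸ Subgroup.mem_top x)
    have h3 : (⊤ : Subgroup G) ≤ Ce (Ce K) :=
      h1 ▸ sup_le (Subgroup.le_centralizer_iff.1 le_rfl) (Subgroup.center_le_centralizer _)
    rw [← inv_mul_eq_one.1 (eq_one m (mul_mem (inv_mem hk.1) hx)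
      (Subgroup.mem_center_iff.2 fun g => (h3 (Subgroup.mem_top g) _ h2).symm))]
    exact hk.2
  · exact ⟨_, inferInstance, (component_le_layer hK).trans le_sup_left, le_sup_right, le_rfl, h⟩

theorem stabH_cov (B : Set (IrrCharacter G)) {K : Subgroup G} {g : G} (hg : g ∈ Subgroup.normalizer (K : Set G)) :
    StabH K.subtype (cov B K) g := by
  rintro θ ⟨χ, hχ, h⟩ θ' h1
  let e : K ≃* K := Subgroup.normalizerMonoidHom K ⟨g, hg⟩
  rw [show θ' = H592.Transport.tr e θ from Subtype.ext (funext fun k => h1 k (e k) rfl)]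
  have h2 := (ov_src_iff e (ι := K.subtype) (ι' := K.subtype.comp e.toMonoidHom) (fun _ => rfl) _ θ).2 h
  exact ⟨χ, hχ, Ov.congr (ι := K.subtype.comp e.toMonoidHom) (χ := χ.1) (fun k => (Basic.irr_conj χ.2 k g).symm) h2⟩

end Cmp

open Cmp

/-- **[OP]** -/
theorem boxOP (RZ : BoxRZ p M) (RT : BoxRT p M) : BoxOP p M := by
  intro G _ _ B D m
  by_contra hne
  have := Lib.Cores.pCore_normal (G := G) p
  have hp := Lib.Cores.pCore_isPGroup (G := G) p
  have hVD := S0912.result p M m.hM B m.hB D m.hD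
  have hN : Ce (pCore p G) ≠ ⊤ := fun h => hne ((Subgroup.eq_bot_iff_forall _).2 fun x hx =>
    eq_one m (hVD hx) (Subgroup.centralizer_eq_top_iff_subset.1 h hx))
  by_cases h : Ce (pCore p G) ≤ D ⊓ Ce (pCore p G) ⊔ Subgroup.center G
  · exact not_all m fun χ hχ χ' hz => uniq m (ab_of (m.ab _ hN) h) h hχ hz
  have hV : pCore p G ≠ ⊤ := fun h1 => by
    have hG : IsPGroup p G := (h1 ▸ hp).of_equiv Subgroup.topEquiv
    have := (Subgroup.nontrivial_iff_ne_bot _).2 hne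
    have : Nontrivial G := (pCore p G).subtype_injective.nontrivial
    have := hG.center_nontrivial
    obtain ⟨z, hz⟩ := exists_ne (1 : Subgroup.center G)
    exact hz (Subtype.ext (eq_one m (hVD (h1 ▸ Subgroup.mem_top _)) z.2))
  obtain ⟨θ, -, -, h1⟩ := cen_zr RZ RT m _ (Subgroup.center_le_centralizer _) hN h
  exact hN (m.gen _ (h1.trans (Subgroup.centralizer_le fun v hv =>
    ⟨⟨hVD hv, fun w hw => m.ab _ hV w ⟨hVD hw, hw⟩ v ⟨hVD hv, hv⟩⟩, fun t ht => (ht.2 v hv).symm⟩)))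

/-- **[CMP]** -/
theorem boxCMP (RZ : BoxRZ p M) (RT : BoxRT p M) : BoxCMP p M := by
  intro G _ _ B D m hO
  have := layer_normal G
  refine ⟨ce_layer m hO, le_antisymm (inf_le m hO _ fun _ h => h) (iSup₂_le fun K hK =>
    inf_le_inf_left D ((component_le_layer hK).trans le_sup_left)), fun K hK hne => ?_⟩
  obtain ⟨N, _, hKN, hZ, hN, hN'⟩ := exists_N m hO hK hne
  obtain ⟨θ, r, -, h1⟩ := cen_zr RZ RT m N hZ hN' fun h => not_ab hK ((ab_of (m.ab N hN') h).mono hKN)
  have h2 : D ⊓ N ⊓ K = D ⊓ K := by rw [inf_assoc, inf_eq_right.2 hKN]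
  obtain ⟨θ', a, ha, h3, r'⟩ := root_down hKN (hN.trans (layer_le hK)) r fun x hx => h2 ▸ key m hO hK hx.1 (hN hx.2)
  have h4 := zr_le (Q := D ⊓ N) (hN.trans (layer_le hK)) ha h3 r'.zero
  rw [h2, ← cov_eq] at r'
  rw [h2] at h4
  refine ⟨fun h => ?_, r'.can.ind.2.1, fun g hg => stabH_cov B hg, θ', r', ⟨r'.can, m.km, hK.2,
    QuotientGroup.mk'_surjective _, QuotientGroup.ker_mk' _, zp_comp m hO hK, ?_, ?_⟩,
    h1.trans (Subgroup.centralizer_le h4)⟩
  · have := Zc_normal m.hM m.hB m.hD (m.blk _)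
    have h5 := (le_sSup (show K ∈ Zc D from ⟨hK, h⟩)).trans (m.zero _ (inf_Zc m.hM m.hB m.hD (m.blk _)))
    exact not_ab hK fun x _ y hy => Subgroup.mem_center_iff.1 (h5 hy) x
  · have := m.cyc
    exact isCyclic_of_injective ((Subgroup.inclusion (center_inj m hO hK)).comp
      ((Subgroup.center K).equivMapOfInjective K.subtype K.subtype_injective).toMonoidHom)
      ((Subgroup.inclusion_injective (center_inj m hO hK)).comp (MulEquiv.injective _))
  · rintro φ ⟨χ, hχ, h5⟩ z hz e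
    have h6 := center_inj m hO hK ⟨z, hz, rfl⟩
    have h7 := ov_center h5 h6 z.2
    change (φ : K → ℂ) z / _ = _ at h7
    rw [e, div_self (isIrr_apply_one_ne_zero φ.2), eq_comm, div_eq_one_iff_eq (isIrr_apply_one_ne_zero χ.2)] at h7
    exact Subtype.ext (m.faith χ hχ _ h6 h7)

end Cfsg.Agent.BH
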